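import Cfsg.Agent.Lib.Coprime23.PSolv
import Cfsg.Agent.Lib.Transfer.SL2Props
import Mathlib

/-!
`{p,q}`-subgroups of `p`-solvable groups.
-/

set_option autoImplicit false
set_option linter.unusedSectionVars false

namespace Cfsg.Agent.AutDiv

open Subgroup Cfsg

universe u

variable {p q : ℕ} [Fact p.Prime] [Fact q.Prime]

/-- A positive number with only the prime divisors `p` and `q`. -/
def OnlyPQ (p q n : ℕ) : Prop := ∀ r : ℕ, r.Prime → r ∣ n → r = p ∨ r = q

/-- A `p`-solvable group has a subgroup with order divisible by the `p`- and `q`-parts only. -/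
theorem exists_pq_subgroup : ∀ (n : ℕ) (G : Type u) [Group G] [Finite G], Nat.card G = n →
    IsPSolvable p G → ∃ T : Subgroup G, OnlyPQ p q (Nat.card T) ∧ ¬ p ∣ T.index ∧ ¬ q ∣ T.index := by
  intro n
  induction n using Nat.strong_induction_on with
  | _ n ih =>
  intro G _ _ hn hs
  classical
  by_cases hsub : Subsingleton G
  · refine ⟨⊤, fun r hr hd => ?_, ?_, ?_⟩
    · rw [card_top, Nat.card_unique] at hd
      exact absurd (Nat.le_of_dvd one_pos hd) (by have := hr.two_le; omega)
    · rw [index_top]; exact (Fact.out : p.Prime).not_dvd_one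
    · rw [index_top]; exact (Fact.out : q.Prime).not_dvd_one
  haveI : Nontrivial G := not_subsingleton_iff_nontrivial.1 hsub
  -- lifting from a proper quotient
  have lift : ∀ N : Subgroup G, N.Normal → N ≠ ⊥ → ∃ L : Subgroup G, N ≤ L ∧
      OnlyPQ p q (N.relIndex L) ∧ ¬ p ∣ L.index ∧ ¬ q ∣ L.index := by
    intro N hN hne
    haveI := hN
    have hlt : Nat.card (G ⧸ N) < n := by
      rw [← hn, Subgroup.card_eq_card_quotient_mul_card_subgroup N]
      exact lt_mul_of_one_lt_right Nat.card_pos ((one_lt_card_iff_ne_bot N).2 hne)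
    obtain ⟨T, hT, hTp, hTq⟩ := ih _ hlt (G ⧸ N) rfl
      (Coprime23.isPSolvable_map (QuotientGroup.mk' N) (QuotientGroup.mk'_surjective N) hs)
    refine ⟨T.comap (QuotientGroup.mk' N), fun x hx => ?_, ?_, ?_, ?_⟩
    · rw [mem_comap, QuotientGroup.mk'_apply, (QuotientGroup.eq_one_iff x).2 hx]; exact one_mem _
    · conv => arg 3; arg 1; rw [← QuotientGroup.ker_mk' N]
      rwa [relIndex_ker, map_comap_eq_self_of_surjective (QuotientGroup.mk'_surjective N)]
    · rwa [index_comap_of_surjective _ (QuotientGroup.mk'_surjective N)]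
    · rwa [index_comap_of_surjective _ (QuotientGroup.mk'_surjective N)]
  -- a normal subgroup whose order involves only `p` and `q`
  have easy : ∀ N : Subgroup G, N.Normal → N ≠ ⊥ → OnlyPQ p q (Nat.card N) →
      ∃ T : Subgroup G, OnlyPQ p q (Nat.card T) ∧ ¬ p ∣ T.index ∧ ¬ q ∣ T.index := by
    intro N hN hne hNo
    obtain ⟨L, hle, hL, h1, h2⟩ := lift N hN hne
    refine ⟨L, fun r hr hd => ?_, h1, h2⟩
    rw [← relIndex_bot_left, ← relIndex_mul_relIndex _ _ _ bot_le hle, relIndex_bot_left] at hd
    rcases hr.dvd_mul.1 hd with h | h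
    · exact hNo r hr h
    · exact hL r hr h
  rcases Coprime23.exists_core_ne_bot hs with hP | hP'
  · refine easy _ inferInstance hP fun r hr hd => Or.inl ?_
    obtain ⟨k, hk⟩ := (Basics.pCore_isPGroup p (G := G)).exists_card_eq
    rw [hk] at hd
    exact (Nat.prime_dvd_prime_iff_eq hr Fact.out).1 (hr.dvd_of_dvd_pow hd)
  set N := pPrimeCore p G with hNdef
  have hNp : (Nat.card N).Coprime p := Basics.pPrimeCore_coprime p
  by_cases hq : q ∣ Nat.card N
  · obtain ⟨Q⟩ : Nonempty (Sylow q N) := Sylow.nonempty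
    set Q' := (Q : Subgroup N).map N.subtype
    have hQne : Q' ≠ ⊥ := by
      rw [Ne, ← card_eq_one, card_map_of_injective N.subtype_injective]
      exact fun h => (Q.ne_bot_of_dvd_card hq) (card_eq_one.1 h)
    have hF : normalizer (Q' : Set G) ⊔ N = ⊤ := Q.normalizer_sup_eq_top
    by_cases htop : normalizer (Q' : Set G) = ⊤
    · refine easy Q' (normalizer_eq_top_iff.1 htop) hQne fun r hr hd => Or.inr ?_
      obtain ⟨k, hk⟩ := (Q.2.map N.subtype).exists_card_eq
      rw [hk] at hd
      exact (Nat.prime_dvd_prime_iff_eq hr Fact.out).1 (hr.dvd_of_dvd_pow hd)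
    set M := normalizer (Q' : Set G)
    have hidx : M.index = M.relIndex N := by
      have h1 : N.relIndex M = N.index := by
        rw [← relIndex_sup_right (H := M) (K := N), hF, relIndex_top_right]
      have h2 := relIndex_mul_index (inf_le_left : M ⊓ N ≤ M)
      have h3 := relIndex_mul_index (inf_le_right : M ⊓ N ≤ N)
      rw [inf_relIndex_left, h1] at h2
      rw [inf_relIndex_right, ← h2, mul_comm N.index] at h3
      exact (Nat.eq_of_mul_eq_mul_right (Nat.pos_of_ne_zero index_ne_zero_of_finite) h3).symm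
    have hMp : ¬ p ∣ M.index := fun hd => by
      rw [hidx] at hd
      have hdN : p ∣ Nat.card N := hd.trans (relIndex_dvd_card _ _)
      exact (Fact.out : p.Prime).not_dvd_one (by
        have := Nat.dvd_gcd hdN (dvd_refl p)
        rwa [hNp] at this)
    have hMq : ¬ q ∣ M.index := fun hd => by
      rw [hidx] at hd
      refine Q.not_dvd_index (hd.trans ?_)
      show M.relIndex N ∣ (Q : Subgroup N).index
      refine index_dvd_of_le (H := (Q : Subgroup N)) (K := M.subgroupOf N) fun x hx => ?_
      exact le_normalizer ⟨x, hx, rfl⟩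
    have hlt : Nat.card M < n := hn ▸ lt_of_le_of_ne (card_le_card_group M)
      fun h => htop (eq_top_of_card_eq M h)
    obtain ⟨T, hT, hTp, hTq⟩ := ih _ hlt M rfl (Transfer.isPSolvable_subgroup' hs M)
    refine ⟨T.map M.subtype, by rwa [card_map_of_injective M.subtype_injective], ?_, ?_⟩ <;>
      rw [index_map_subtype, (Fact.out : Nat.Prime _).dvd_mul, not_or] <;>
      exact ⟨by assumption, by assumption⟩
  · obtain ⟨L, hle, hL, h1, h2⟩ := lift N inferInstance hP'
    have hcop : (Nat.card (N.subgroupOf L)).Coprime (N.subgroupOf L).index := by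
      rw [Nat.card_congr (subgroupOfEquivOfLe hle).toEquiv]
      refine Nat.coprime_of_dvd fun r hr hd1 hd2 => ?_
      rcases hL r hr hd2 with rfl | rfl
      · exact hr.not_dvd_one (by
          have := Nat.dvd_gcd hd1 (dvd_refl r)
          rwa [hNp] at this)
      · exact hq hd1
    obtain ⟨K, hK⟩ := exists_right_complement'_of_coprime hcop
    refine ⟨K.map L.subtype, ?_, ?_, ?_⟩
    · rw [card_map_of_injective L.subtype_injective, ← hK.symm.index_eq_card]
      exact hL
    · rw [index_map_subtype, (Fact.out : p.Prime).dvd_mul, not_or]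
      refine ⟨fun hd => (Fact.out : p.Prime).not_dvd_one ?_, h1⟩
      rw [hK.index_eq_card, Nat.card_congr (subgroupOfEquivOfLe hle).toEquiv] at hd
      have := Nat.dvd_gcd hd (dvd_refl p)
      rwa [hNp] at this
    · rw [index_map_subtype, (Fact.out : q.Prime).dvd_mul, not_or]
      refine ⟨fun hd => hq ?_, h2⟩
      rwa [hK.index_eq_card, Nat.card_congr (subgroupOfEquivOfLe hle).toEquiv] at hd

/-- The subgroup may be taken to contain a given `p`-subgroup of full order. -/
theorem exists_pq_subgroup_ge {G : Type u} [Group G] [Finite G] (hs : IsPSolvable p G) (S : Sylow p G) :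
    ∃ T : Subgroup G, (S : Subgroup G) ≤ T ∧ OnlyPQ p q (Nat.card T) ∧ ¬ q ∣ T.index := by
  obtain ⟨T, hT, hp, hq⟩ := exists_pq_subgroup (p := p) (q := q) _ G rfl hs
  obtain ⟨P⟩ : Nonempty (Sylow p T) := Sylow.nonempty
  have hi : ¬ p ∣ ((P : Subgroup T).map T.subtype).index := by
    rw [index_map_subtype, (Fact.out : p.Prime).dvd_mul, not_or]
    exact ⟨P.not_dvd_index, hp⟩
  obtain ⟨g, hg⟩ := MulAction.exists_smul_eq G ((P.2.map T.subtype).toSylow hi) S
  refine ⟨T.map (MulAut.conj g).toMonoidHom, fun x hx => ?_, ?_, ?_⟩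
  · rw [← hg] at hx
    obtain ⟨y, hy, rfl⟩ := hx
    exact ⟨y, map_subtype_le _ hy, rfl⟩
  · rwa [card_map_of_injective (MulAut.conj g).injective]
  · exact (index_map_equiv T (MulAut.conj g)).symm ▸ hq

end Cfsg.Agent.AutDiv
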