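import Cfsg.Agent.Lib.AutDiv.Hall
import Cfsg.Agent.Lib.Components.FFThompson
import Cfsg.Agent.Lib.Components.FFPlane2
import Cfsg.Agent.Lib.LocalEvenA.Asym
import Cfsg.Agent.S0609
import Mathlib

/-!
A prime dividing some automizer of a `p`-subgroup divides the automizer of a normal subgroup of a
Sylow `p`-subgroup.
-/

set_option autoImplicit false
set_option linter.unusedSectionVars false

namespace Cfsg.Agent.AutDiv

open Subgroup Cfsg
open scoped Pointwise

universe u v

variable {p q : ℕ} [Fact p.Prime] [Fact q.Prime]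

theorem lift_qElement {A : Type u} {B : Type v} [Group A] [Finite A] [Group B] (f : A →* B) {g : A}
    {k : ℕ} (hg : f g ^ q ^ k = 1) :
    ∃ g' ∈ zpowers g, (∃ l, g' ^ q ^ l = 1) ∧ f g' = f g := by
  have hn : orderOf g ≠ 0 := (orderOf_pos g).ne'
  set b := orderOf g / q ^ (orderOf g).factorization q
  have hb : ¬ q ∣ b := Nat.not_dvd_ordCompl Fact.out hn
  have hcop : b.Coprime (orderOf (f g)) := by
    obtain ⟨j, -, hj⟩ := (Nat.dvd_prime_pow Fact.out).1 (orderOf_dvd_of_pow_eq_one hg)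
    rw [hj]
    exact Nat.Coprime.pow_right _ ((Nat.Prime.coprime_iff_not_dvd Fact.out).2 hb).symm
  obtain ⟨m, hm⟩ := exists_pow_eq_self_of_coprime hcop
  refine ⟨(g ^ b) ^ m, pow_mem (pow_mem (mem_zpowers g) _) _, ⟨(orderOf g).factorization q, ?_⟩, ?_⟩
  · rw [← pow_mul, ← pow_mul, mul_comm m, ← mul_assoc, mul_comm b,
      show q ^ (orderOf g).factorization q * b = orderOf g from Nat.ordProj_mul_ordCompl_eq_self _ _,
      pow_mul, pow_orderOf_eq_one, one_pow]
  · rw [map_pow, map_pow, hm]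

theorem exists_qElement_of_dvd {A : Type u} {B : Type v} [Group A] [Finite A] [Group B] (f : A →* B)
    (K : Subgroup A) (h : q ∣ Nat.card (K.map f)) : ∃ y ∈ K, (∃ l, y ^ q ^ l = 1) ∧ f y ≠ 1 := by
  haveI : Finite (K.map f) := Finite.of_surjective _ (f.subgroupMap_surjective K)
  obtain ⟨⟨w, hw⟩, ho⟩ := exists_prime_orderOf_dvd_card' (G := K.map f) q h
  obtain ⟨g, hg, rfl⟩ := hw
  rw [← Subgroup.orderOf_coe] at ho
  obtain ⟨g', hg', hl, e⟩ := lift_qElement (q := q) (k := 1) f
    (show f g ^ q ^ 1 = 1 by rw [pow_one, ← ho]; exact pow_orderOf_eq_one _)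
  refine ⟨g', zpowers_le.2 hg hg', hl, fun h1 => ?_⟩
  rw [e] at h1
  exact (Fact.out : q.Prime).one_lt.ne (orderOf_eq_one_iff.2 h1 ▸ ho :)

variable {G : Type u} [Group G]

/-- Some `q`-element normalizes and does not centralize `H`. -/
def Good (q : ℕ) (H : Subgroup G) : Prop :=
  ∃ y ∈ normalizer (H : Set G), (∃ k, y ^ q ^ k = 1) ∧ y ∉ centralizer (H : Set G)

/-- Automizers of `p`-subgroups are `p`-solvable. -/
def Hyp (p : ℕ) (G : Type u) [Group G] : Prop :=
  ∀ H : Subgroup G, IsPGroup p ↥H →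
    IsPSolvable p (↥(normalizer (H : Set G)) ⧸ (centralizer (H : Set G)).subgroupOf (normalizer (H : Set G)))

theorem good_iff [Finite G] (H : Subgroup G) :
    q ∣ ((centralizer (H : Set G)).subgroupOf (normalizer (H : Set G))).index ↔ Good q H := by
  set C := (centralizer (H : Set G)).subgroupOf (normalizer (H : Set G))
  have hc : C.index = Nat.card ((⊤ : Subgroup ↥(normalizer (H : Set G))).map (QuotientGroup.mk' C)) := by
    rw [map_top_of_surjective _ (QuotientGroup.mk'_surjective C), card_top]; rfl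
  constructor
  · intro h
    obtain ⟨y, -, ⟨l, hl⟩, hy⟩ := exists_qElement_of_dvd (QuotientGroup.mk' C) ⊤ (hc ▸ h)
    exact ⟨y, y.2, ⟨l, congrArg Subtype.val hl⟩, fun h' => hy ((QuotientGroup.eq_one_iff y).2 h')⟩
  · rintro ⟨y, hyN, ⟨k, hk⟩, hyC⟩
    set w : ↥(normalizer (H : Set G)) ⧸ C := QuotientGroup.mk ⟨y, hyN⟩
    have hw : w ≠ 1 := fun e => hyC ((QuotientGroup.eq_one_iff _).1 e :)
    have hwk : w ^ q ^ k = 1 := by
      show QuotientGroup.mk' C ⟨y, hyN⟩ ^ q ^ k = 1
      rw [← map_pow, show (⟨y, hyN⟩ : ↥(normalizer (H : Set G))) ^ q ^ k = 1 from Subtype.ext hk, map_one]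
    obtain ⟨j, -, hj⟩ := (Nat.dvd_prime_pow Fact.out).1 (orderOf_dvd_of_pow_eq_one hwk)
    have hj0 : j ≠ 0 := fun e => hw (orderOf_eq_one_iff.1 (by rw [hj, e, pow_zero]))
    exact (dvd_pow_self q hj0).trans (hj ▸ orderOf_dvd_natCard w)

theorem isPSolvable_ext {A B : Type u} [Group A] [Group B] (f : A →* B)
    (hf : Function.Surjective f)
    (hker : (∃ m, Nat.card f.ker = p ^ m) ∨ (Nat.card f.ker).Coprime p) (h : IsPSolvable p B) :
    IsPSolvable p A := by
  obtain ⟨n, C, h0, h1, hmono, hn, hfac⟩ := h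
  refine ⟨n + 1, Fin.cons ⊥ (fun i => (C i).comap f), Fin.cons_zero _ _, ?_, ?_, ?_, ?_⟩
  · rw [← Fin.succ_last, Fin.cons_succ, h1, Subgroup.comap_top]
  · rw [Fin.monotone_iff_le_succ]
    intro i
    induction i using Fin.cases with
    | zero => simp
    | succ i =>
      rw [← Fin.succ_castSucc, Fin.cons_succ, Fin.cons_succ]
      exact Subgroup.comap_mono (hmono (Fin.castSucc_lt_succ (i := i)).le)
  · intro i
    induction i using Fin.cases with
    | zero => rw [Fin.cons_zero]; infer_instance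
    | succ i => rw [Fin.cons_succ]; exact (hn i).comap f
  · intro i
    induction i using Fin.cases with
    | zero =>
      rw [Fin.cons_succ, Fin.castSucc_zero, Fin.cons_zero, Subgroup.relIndex_bot_left, h0,
        MonoidHom.comap_bot]
      exact hker
    | succ i =>
      rw [← Fin.succ_castSucc, Fin.cons_succ, Fin.cons_succ, Subgroup.relIndex_comap,
        Subgroup.map_comap_eq_self_of_surjective hf]
      exact hfac i

theorem hyp_subgroup [Finite G] (h : Hyp p G) (M : Subgroup G) : Hyp p ↥M := by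
  intro H hH
  set H' := H.map M.subtype
  set C := (centralizer (H : Set M)).subgroupOf (normalizer (H : Set M))
  let ι : ↥(normalizer (H : Set M)) →* ↥(normalizer (H' : Set G)) :=
    ((M.subtype.comp (normalizer (H : Set M)).subtype).codRestrict _ fun x =>
      le_normalizer_map _ ⟨x.1, x.2, rfl⟩)
  let ψ := (QuotientGroup.mk' ((centralizer (H' : Set G)).subgroupOf (normalizer (H' : Set G)))).comp ι
  have hker : ψ.ker = C := by
    ext x
    rw [MonoidHom.mem_ker, show ψ x = QuotientGroup.mk (ι x) from rfl, QuotientGroup.eq_one_iff]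
    constructor
    · exact fun hx a ha => Subtype.ext (hx _ ⟨a, ha, rfl⟩)
    · rintro hx _ ⟨a, ha, rfl⟩
      exact congrArg Subtype.val (hx a ha)
  let e := (QuotientGroup.quotientMulEquivOfEq hker).symm.trans (QuotientGroup.quotientKerEquivRange ψ)
  exact Coprime23.isPSolvable_map e.symm.toMonoidHom e.symm.surjective
    (Transfer.isPSolvable_subgroup' (h H' (hH.map _)) _)

theorem hyp_quotient [Finite G] (h : Hyp p G) (X : Subgroup G) [X.Normal] (hX : IsPGroup p X) :
    Hyp p (G ⧸ X) := by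
  intro H hH
  have hπ := QuotientGroup.mk'_surjective X
  set K := H.comap (QuotientGroup.mk' X)
  have hK : IsPGroup p K := hH.comap_of_ker_isPGroup _ (by rwa [QuotientGroup.ker_mk'])
  have hN : normalizer (K : Set G) = (normalizer (H : Set (G ⧸ X))).comap (QuotientGroup.mk' X) :=
    (comap_normalizer_eq_of_surjective H hπ).symm
  let ι : ↥(normalizer (K : Set G)) →* ↥(normalizer (H : Set (G ⧸ X))) :=
    ((QuotientGroup.mk' X).comp (normalizer (K : Set G)).subtype).codRestrict _ fun x =>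
      mem_comap.1 (show x.1 ∈ (normalizer (H : Set (G ⧸ X))).comap (QuotientGroup.mk' X) by rw [← hN]; exact x.2)
  have hι : Function.Surjective ι := fun ⟨y, hy⟩ => by
    obtain ⟨g, rfl⟩ := hπ y
    exact ⟨⟨g, by rw [hN]; exact hy⟩, rfl⟩
  let ψ := (QuotientGroup.mk' ((centralizer (H : Set (G ⧸ X))).subgroupOf (normalizer (H : Set (G ⧸ X))))).comp ι
  refine Coprime23.isPSolvable_map (QuotientGroup.lift _ ψ fun x hx => ?_) (fun y => ?_) (h K hK)
  · refine (QuotientGroup.eq_one_iff (ι x)).2 fun a ha => ?_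
    obtain ⟨g, rfl⟩ := hπ a
    show QuotientGroup.mk' X g * QuotientGroup.mk' X x.1 = QuotientGroup.mk' X x.1 * QuotientGroup.mk' X g
    rw [← map_mul, ← map_mul]; exact congrArg _ (hx g ha)
  · obtain ⟨z, rfl⟩ := ((QuotientGroup.mk'_surjective _).comp hι) y
    exact ⟨QuotientGroup.mk z, rfl⟩

theorem sylow_inf [Finite G] (T : Sylow p G) (N : Subgroup G) [N.Normal] :
    ∃ P : Sylow p N, (P : Subgroup N).map N.subtype = (T : Subgroup G) ⊓ N := by
  have hp : IsPGroup p ((T : Subgroup G).subgroupOf N) := T.2.comap_of_injective N.subtype N.subtype_injective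
  obtain ⟨P, hP⟩ := hp.exists_le_sylow
  refine ⟨P, (eq_of_le_of_card_ge ?_ ?_).symm⟩
  · intro x hx
    exact ⟨⟨x, hx.2⟩, hP (mem_subgroupOf.mpr hx.1), rfl⟩
  · obtain ⟨T', hT'⟩ := (P.2.map N.subtype).exists_le_sylow
    obtain ⟨g, hg⟩ := MulAction.exists_smul_eq G T T'
    refine le_trans (card_le_of_le (show (P : Subgroup N).map N.subtype ≤
      ((T : Subgroup G) ⊓ N).map (MulAut.conj g).toMonoidHom from ?_))
      (card_map_of_injective (MulAut.conj g).injective).le
    intro y hy
    have h1 : y ∈ (T' : Subgroup G) := hT' hy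
    rw [← hg] at h1
    obtain ⟨z, hz, hzy⟩ : y ∈ (T : Subgroup G).map (MulAut.conj g).toMonoidHom := h1
    refine ⟨z, ⟨hz, ?_⟩, hzy⟩
    have hyN : y ∈ N := map_subtype_le _ hy
    have : g * z * g⁻¹ = y := hzy
    rw [← this] at hyN
    simpa [mul_assoc] using (inferInstance : N.Normal).conj_mem' _ hyN g

theorem eq_one_of_coprime_pows {A : Type v} [Group A] {a : A} {i j : ℕ} (hpq : p ≠ q)
    (hp : a ^ p ^ i = 1) (hq : a ^ q ^ j = 1) : a = 1 := by
  have h1 := Nat.dvd_gcd (orderOf_dvd_of_pow_eq_one hp) (orderOf_dvd_of_pow_eq_one hq)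
  rw [Nat.Coprime.pow i j ((Nat.coprime_primes Fact.out Fact.out).2 hpq)] at h1
  exact orderOf_eq_one_iff.1 (Nat.dvd_one.1 h1)

theorem conjSmul_eq_map {A : Type v} [Group A] (g : A) (K : Subgroup A) :
    MulAut.conj g • K = K.map (MulAut.conj g).toMonoidHom := rfl

theorem le_sylow_of_normalizer [Finite G] {H : Subgroup G} (hH : IsPGroup p H)
    (S : Sylow p ↥(normalizer (H : Set G))) : H.subgroupOf (normalizer (H : Set G)) ≤ (S : Subgroup _) :=
  have h1 : IsPGroup p ↥(H.subgroupOf (normalizer (H : Set G))) :=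
    hH.comap_of_injective _ (subtype_injective _)
  haveI : (H.subgroupOf (normalizer (H : Set G))).Normal := normal_in_normalizer
  le_sup_left.trans (S.3 (h1.to_sup_of_normal_left S.2) le_sup_right).le

/-- A `{p,q}`-subgroup of `N(H)` with full `p`-part inducing a nontrivial `q`-element on `H`. -/
theorem exists_T [Finite G] (h : Hyp p G) {H : Subgroup G} (hH : IsPGroup p H) (hg : Good q H)
    (S : Sylow p ↥(normalizer (H : Set G))) :
    ∃ T : Subgroup G, T ≤ normalizer (H : Set G) ∧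
      (S : Subgroup _).map (normalizer (H : Set G)).subtype ≤ T ∧ IsPSolvable p T ∧
      OnlyPQ p q (Nat.card T) ∧ ∃ y ∈ T, (∃ k, y ^ q ^ k = 1) ∧ y ∉ centralizer (H : Set G) := by
  obtain ⟨y, hyN, ⟨k, hk⟩, hyC⟩ := hg
  revert S
  set N := normalizer (H : Set G) with hNdef
  intro S
  set C := (centralizer (H : Set G)).subgroupOf N
  obtain ⟨PR, hPR⟩ := sylow_inf S C
  set R : Subgroup N := (S : Subgroup N) ⊓ C
  have hF : normalizer (R : Set N) ⊔ C = ⊤ := hPR ▸ PR.normalizer_sup_eq_top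
  set N1 := normalizer (R : Set N)
  -- the Sylow subgroup lies in `N1`
  have hSN1 : (S : Subgroup N) ≤ N1 := fun s hs => mem_normalizer_iff.2 fun x => by
    constructor
    · exact fun hx => ⟨(S : Subgroup N).mul_mem ((S : Subgroup N).mul_mem hs hx.1) ((S : Subgroup N).inv_mem hs), (inferInstance : C.Normal).conj_mem _ hx.2 s⟩
    · intro hx
      rw [show x = s⁻¹ * (s * x * s⁻¹) * s by group]
      exact ⟨(S : Subgroup N).mul_mem ((S : Subgroup N).mul_mem ((S : Subgroup N).inv_mem hs) hx.1) hs, (inferInstance : C.Normal).conj_mem' _ hx.2 s⟩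
  -- a `q`-element of `N1`
  obtain ⟨n, hn, c, hc, hnc⟩ := mem_sup_of_normal_right.1
    (show (⟨y, hyN⟩ : N) ∈ N1 ⊔ C by rw [hF]; trivial)
  have hmk : QuotientGroup.mk' C n = QuotientGroup.mk' C ⟨y, hyN⟩ := by
    rw [← hnc, map_mul, show QuotientGroup.mk' C c = 1 from (QuotientGroup.eq_one_iff c).2 hc, mul_one]
  obtain ⟨n', hn', ⟨l, hl⟩, hn'e⟩ := lift_qElement (q := q) (k := k) (QuotientGroup.mk' C) (g := n) (by
    rw [hmk, ← map_pow, show (⟨y, hyN⟩ : N) ^ q ^ k = 1 from Subtype.ext hk, map_one])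
  have hn'N1 : n' ∈ N1 := zpowers_le.2 hn hn'
  have hn'C : n' ∉ C := fun hh => hyC (show (⟨y, hyN⟩ : N) ∈ C from (QuotientGroup.eq_one_iff _).1 (by
    show QuotientGroup.mk' C _ = 1
    rw [← hmk, ← hn'e]; exact (QuotientGroup.eq_one_iff n').2 hh))
  -- `N1` is `p`-solvable
  have hHS : H.subgroupOf N ≤ (S : Subgroup N) :=
    le_sylow_of_normalizer hH S
  set V := H.subgroupOf N ⊔ R
  have hV : IsPGroup p (V.map N.subtype) := (S.2.to_le (sup_le hHS inf_le_left)).map _
  have hN1V : N1 ≤ normalizer (V : Set N) := by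
    have h1 : N1 ≤ normalizer ((H.subgroupOf N : Subgroup N) : Set N) := by
      rw [normalizer_eq_top]; exact le_top
    intro x hx
    rw [← Basics.conj_smul_eq_self_iff, conjSmul_eq_map, Subgroup.map_sup, ← conjSmul_eq_map,
      ← conjSmul_eq_map, (Basics.conj_smul_eq_self_iff).2 (h1 hx), (Basics.conj_smul_eq_self_iff).2 hx]
  let ι : ↥N1 →* ↥(normalizer ((V.map N.subtype : Subgroup G) : Set G)) :=
    (N.subtype.comp N1.subtype).codRestrict _ fun x => le_normalizer_map _ ⟨x.1, hN1V x.2, rfl⟩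
  let ψ := (QuotientGroup.mk'
    ((centralizer ((V.map N.subtype : Subgroup G) : Set G)).subgroupOf (normalizer _))).comp ι
  have hB : IsPSolvable p ψ.range := Transfer.isPSolvable_subgroup' (h _ hV) _
  have hkerC : ∀ x : N1, x ∈ ψ.ker → (x : N) ∈ C ∧ ∀ r ∈ R, r * (x : N) = (x : N) * r := by
    intro x hx
    have hx' : (x.1.1 : G) ∈ centralizer ((V.map N.subtype : Subgroup G) : Set G) :=
      (QuotientGroup.eq_one_iff (ι x)).1 hx
    exact ⟨fun a ha => hx' a ⟨⟨a, le_normalizer ha⟩, mem_sup_left ha, rfl⟩,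
      fun r hr => Subtype.ext (hx' r ⟨r, mem_sup_right hr, rfl⟩)⟩
  set K0 := ψ.ker
  set R1 := R.subgroupOf N1
  haveI hR1 : R1.Normal := normal_in_normalizer
  set Z := R1 ⊓ K0
  let S1 : Sylow p N1 := S.subtype hSN1
  obtain ⟨P0, hP0⟩ := sylow_inf S1 K0
  have hSK : (S1 : Subgroup N1) ⊓ K0 = Z := by
    ext x
    constructor
    · exact fun hx => ⟨⟨mem_subgroupOf.1 (hx.1), (hkerC x hx.2).1⟩, hx.2⟩
    · exact fun hx => ⟨mem_subgroupOf.2 hx.1.1, hx.2⟩
  have hZp : ∃ m, Nat.card Z = p ^ m := (S1.2.to_le (hSK ▸ inf_le_left)).exists_card_eq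
  have hN1s : IsPSolvable p N1 := by
    let g : N1 ⧸ Z →* ψ.range := QuotientGroup.lift Z ψ.rangeRestrict fun x hx =>
      MonoidHom.mem_ker.2 (Subtype.ext (hx.2 : x ∈ ψ.ker))
    have hg : Function.Surjective g := fun b => by
      obtain ⟨x, rfl⟩ := ψ.rangeRestrict_surjective b
      exact ⟨QuotientGroup.mk x, rfl⟩
    refine isPSolvable_ext (QuotientGroup.mk' Z) (QuotientGroup.mk'_surjective Z)
      (Or.inl (by rwa [QuotientGroup.ker_mk'])) (isPSolvable_ext g hg (Or.inr ?_) hB)
    rw [show g.ker = K0.map (QuotientGroup.mk' Z) by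
      rw [QuotientGroup.ker_lift, MonoidHom.ker_rangeRestrict]]
    rw [← relIndex_ker, QuotientGroup.ker_mk', Nat.coprime_comm,
      Nat.Prime.coprime_iff_not_dvd Fact.out, ← hSK, ← hP0]
    rw [relIndex, ← comap_subtype, comap_map_eq_self_of_injective K0.subtype_injective]
    exact P0.not_dvd_index
  obtain ⟨T, hST, hT, hTq⟩ := exists_pq_subgroup_ge (q := q) hN1s S1
  refine ⟨(T.map N1.subtype).map N.subtype, map_subtype_le _, map_mono fun x hx => ?_, ?_, ?_, ?_⟩
  · exact ⟨⟨x, hSN1 hx⟩, hST (show (⟨x, hSN1 hx⟩ : N1) ∈ (S : Subgroup N).subgroupOf N1 from hx), rfl⟩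
  · let e := (T.equivMapOfInjective N1.subtype N1.subtype_injective).trans
      ((T.map N1.subtype).equivMapOfInjective N.subtype N.subtype_injective)
    exact Coprime23.isPSolvable_map e.toMonoidHom e.surjective (Transfer.isPSolvable_subgroup' hN1s T)
  · rwa [card_map_of_injective N.subtype_injective, card_map_of_injective N1.subtype_injective]
  · -- a conjugate of the element lies in `T`
    obtain ⟨Q⟩ : Nonempty (Sylow q T) := Sylow.nonempty
    have hi : ¬ q ∣ ((Q : Subgroup T).map T.subtype).index := by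
      rw [index_map_subtype, (Fact.out : q.Prime).dvd_mul, not_or]
      exact ⟨Q.not_dvd_index, hTq⟩
    have hz : IsPGroup q (zpowers (⟨n', hn'N1⟩ : N1)) := by
      rintro ⟨_, i, rfl⟩
      refine ⟨l, Subtype.ext ?_⟩
      show ((⟨n', hn'N1⟩ : N1) ^ i) ^ q ^ l = 1
      rw [← zpow_natCast, ← zpow_mul, mul_comm, zpow_mul, zpow_natCast,
        show (⟨n', hn'N1⟩ : N1) ^ q ^ l = 1 from Subtype.ext hl, one_zpow]
    obtain ⟨Q2, hQ2⟩ := hz.exists_le_sylow
    obtain ⟨g, hg⟩ := MulAction.exists_smul_eq N1 ((Q.2.map T.subtype).toSylow hi) Q2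
    obtain ⟨z, hz', hze⟩ : (⟨n', hn'N1⟩ : N1) ∈ ((Q : Subgroup T).map T.subtype).map (MulAut.conj g).toMonoidHom := by
      have := hQ2 (mem_zpowers (⟨n', hn'N1⟩ : N1))
      rw [← hg] at this
      exact this
    refine ⟨z.1.1, ⟨z.1, ⟨z, map_subtype_le _ hz', rfl⟩, rfl⟩, ?_, fun hzC => hn'C ?_⟩
    · obtain ⟨w, hw, rfl⟩ := hz'
      obtain ⟨j, hj⟩ := Q.2 ⟨w, hw⟩
      exact ⟨j, congrArg (fun x : (Q : Subgroup T) => (((x : T) : N1) : N).1) hj⟩
    · rw [show n' = (g : N) * z.1 * (g : N)⁻¹ from (congrArg Subtype.val hze).symm]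
      exact (inferInstance : C.Normal).conj_mem _ hzC _

/-- The Thompson factorization of a `{p,q}`-group, `{p,q} ≠ {2,3}`. -/
theorem factorizable {T : Type u} [Group T] [Finite T] (h23 : ¬ ((p = 2 ∧ q = 3) ∨ (p = 3 ∧ q = 2)))
    (hs : IsPSolvable p T) (hT : OnlyPQ p q (Nat.card T)) : IsThompsonFactorizable p T := by
  rw [S0609.result]
  by_contra hn
  obtain ⟨hp, E, -, -, -, hEn, ⟨e⟩⟩ := Components.exists_sl2_of_not_factorizable
    (Coprime23.isPSolvable_map (QuotientGroup.mk' (pPrimeCore p T)) (QuotientGroup.mk'_surjective _) hs)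
    (Basics.pPrimeCore_quotient_eq_bot p) hn
  have hd : p * (p * p - 1) ∣ Nat.card T := by
    rw [← Components.card_sl2_zmod, ← Nat.card_congr e.toEquiv]
    exact ((card_quotient_dvd_card _).trans (card_subgroup_dvd_card E)).trans (card_quotient_dvd_card _)
  rcases hp with rfl | rfl
  · rcases hT 3 Nat.prime_three ((show 3 ∣ 2 * (2 * 2 - 1) by decide).trans hd) with h | h
    · omega
    · exact h23 (Or.inl ⟨rfl, h.symm⟩)
  · rcases hT 2 Nat.prime_two ((show 2 ∣ 3 * (3 * 3 - 1) by decide).trans hd) with h | h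
    · omega
    · exact h23 (Or.inr ⟨rfl, h.symm⟩)

theorem map_le_map_sylow {T : Type u} [Group T] [Finite T] {B : Type u} [Group B] (φ : T →* B)
    (hT : OnlyPQ p q (Nat.card T)) (ST : Sylow p T) (K : Subgroup T) (hK : (ST : Subgroup T) ≤ K)
    (hq : ¬ q ∣ Nat.card (K.map φ)) : K.map φ ≤ (ST : Subgroup T).map φ := by
  rw [← relIndex_eq_one]
  by_contra h1
  have hd1 : ((ST : Subgroup T).map φ).relIndex (K.map φ) ∣ (ST : Subgroup T).relIndex K :=
    Coprime23.relIndex_map_dvd φ _ _
  have hd2 : ((ST : Subgroup T).map φ).relIndex (K.map φ) ∣ Nat.card (K.map φ) := relIndex_dvd_card _ _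
  obtain ⟨r, hr, hrd⟩ := Nat.exists_prime_and_dvd h1
  have hrT : r ∣ Nat.card T := (hrd.trans hd2).trans ((card_dvd_of_surjective (φ.subgroupMap K) (φ.subgroupMap_surjective K)).trans (card_subgroup_dvd_card K))
  rcases hT r hr hrT with rfl | rfl
  · exact ST.not_dvd_index ((hrd.trans hd1).trans ⟨K.index, (relIndex_mul_index hK).symm⟩)
  · exact hq (hrd.trans hd2)

/-- A characteristic subgroup of `S` with a nontrivial `q`-element in its normalizer. -/
theorem exists_X [Finite G] (hpq : p ≠ q) (h23 : ¬ ((p = 2 ∧ q = 3) ∨ (p = 3 ∧ q = 2))) (h : Hyp p G)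
    {H : Subgroup G} (hH : IsPGroup p H) (hg : Good q H) (S : Sylow p ↥(normalizer (H : Set G)))
    {S' : Subgroup G} (hS' : S' = (S : Subgroup _).map (normalizer (H : Set G)).subtype) (hne : S' ≠ ⊥) :
    ∃ X : Subgroup G, X ≠ ⊥ ∧ X ≤ S' ∧ normalizer (S' : Set G) ≤ normalizer (X : Set G) ∧
      ∃ y ∈ normalizer (H : Set G), y ∈ normalizer (X : Set G) ∧ (∃ k, y ^ q ^ k = 1) ∧
        y ∉ centralizer (H : Set G) := by
  obtain ⟨T, hTN, hST, hTs, hT, y, hyT, ⟨k, hk⟩, hyC⟩ := exists_T h hH hg S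
  rw [← hS'] at hST
  have hi : ¬ p ∣ (S'.subgroupOf T).index := fun hd => S.not_dvd_index (hd.trans (by
    have h1 : S'.relIndex T ∣ S'.relIndex (normalizer (H : Set G)) :=
      ⟨T.relIndex (normalizer (H : Set G)), (relIndex_mul_relIndex _ _ _ hST hTN).symm⟩
    refine h1.trans (dvd_of_eq ?_)
    rw [hS', relIndex, ← comap_subtype, comap_map_eq_self_of_injective (subtype_injective _)]))
  have hSp : IsPGroup p S' := hS' ▸ S.2.map _
  let ST : Sylow p T := (hSp.comap_of_injective T.subtype T.subtype_injective).toSylow hi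
  have hSTe : (ST : Subgroup T).map T.subtype = S' := map_subgroupOf_eq_of_le hST
  let φ : T →* MulAut H := H.normalizerMonoidHom.comp (inclusion hTN)
  have hφ : ∀ t : T, φ t = 1 ↔ (t : G) ∈ centralizer (H : Set G) := fun t => by
    show inclusion hTN t ∈ H.normalizerMonoidHom.ker ↔ _
    rw [normalizerMonoidHom_ker]; rfl
  set Z := Components.omegaZ p (ST : Subgroup T)
  set J := thompsonSubgroupOf p (ST : Subgroup T)
  -- one of the two factors induces a `q`-element
  have key : q ∣ Nat.card ((centralizer (Z : Set T)).map φ) ∨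
      q ∣ Nat.card ((normalizer (J : Set T)).map φ) := by
    by_contra hc
    have hc : ¬ q ∣ Nat.card ((centralizer (Z : Set T)).map φ) ∧ ¬ q ∣ Nat.card ((normalizer (J : Set T)).map φ) :=
      not_or.1 hc
    have hsmall := fun (K : Subgroup T) => map_le_map_sylow φ hT ST K
    have hCZ : (ST : Subgroup T) ≤ centralizer (Z : Set T) := fun s hs z hz =>
      ((Components.omegaZ_le _ hz).2 s hs).symm
    have hNJ : (ST : Subgroup T) ≤ normalizer (J : Set T) := fun s hs => by
      rw [← Basics.conj_smul_eq_self_iff, conjSmul_eq_map,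
        Transfer.map_thompsonSubgroupOf _ _ (MulAut.conj s).injective.injOn, ← conjSmul_eq_map,
        (Basics.conj_smul_eq_self_iff).2 (le_normalizer hs)]
    obtain ⟨x, hx, c, hc', n, hn, hyx⟩ := factorizable h23 hTs hT ST ⟨y, hyT⟩
    have hx1 : φ x = 1 := (hφ x).2 fun a ha => by
      have hdis : Disjoint (pPrimeCore p T) (H.subgroupOf T) := disjoint_iff.2
        (inf_eq_bot_of_coprime (by
          obtain ⟨m, hm⟩ := (hH.comap_of_injective T.subtype T.subtype_injective).exists_card_eq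
          rw [show Nat.card (H.subgroupOf T) = p ^ m from hm]
          exact (Basics.pPrimeCore_coprime p).pow_right m))
      haveI : (H.subgroupOf T).Normal := normal_subgroupOf_of_le_normalizer hTN
      have hHT : H ≤ T := by
        refine le_trans ?_ hST
        rw [hS']
        intro b hb
        exact ⟨⟨b, le_normalizer hb⟩, le_sylow_of_normalizer hH S (mem_subgroupOf.2 hb), rfl⟩
      exact (congrArg Subtype.val ((commute_of_normal_of_disjoint _ _ inferInstance inferInstance hdis x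
        ⟨a, hHT ha⟩ hx (mem_subgroupOf.2 ha)).eq)).symm
    have hy' : φ ⟨y, hyT⟩ ∈ (ST : Subgroup T).map φ := by
      rw [hyx, map_mul, map_mul, hx1, one_mul]
      exact mul_mem (hsmall _ hCZ hc.1 (mem_map_of_mem φ hc')) (hsmall _ hNJ hc.2 (mem_map_of_mem φ hn))
    obtain ⟨j, hj⟩ := (ST.2.map φ) ⟨_, hy'⟩
    exact hyC ((hφ ⟨y, hyT⟩).1 (eq_one_of_coprime_pows (p := p) (q := q) (j := k) hpq
      (congrArg Subtype.val hj) (by rw [← map_pow, show (⟨y, hyT⟩ : T) ^ q ^ k = 1 from Subtype.ext hk, map_one])))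
  have fin : ∀ (X : Subgroup G) (K : Subgroup T), q ∣ Nat.card (K.map φ) →
      (∀ t ∈ K, (t : G) ∈ normalizer (X : Set G)) →
      ∃ y ∈ normalizer (H : Set G), y ∈ normalizer (X : Set G) ∧ (∃ k, y ^ q ^ k = 1) ∧
        y ∉ centralizer (H : Set G) := fun X K hq hK => by
    obtain ⟨z, hz, ⟨l, hl⟩, hz1⟩ := exists_qElement_of_dvd φ K hq
    exact ⟨z, hTN z.2, hK z hz, ⟨l, congrArg Subtype.val hl⟩, fun hh => hz1 ((hφ z).2 hh)⟩
  rcases key with hq | hq
  · have hX : Z.map T.subtype = Components.omegaZ p S' := by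
      rw [Components.map_omegaZ _ _ T.subtype_injective.injOn, hSTe]
    refine ⟨Components.omegaZ p S', ?_, (Components.omegaZ_le _).trans inf_le_left, fun g hg => ?_,
      fin _ _ hq fun t ht => centralizer_le_normalizer _ ?_⟩
    · refine LocalEvenA.omegaOne_ne_bot (hSp.to_le inf_le_left) fun hb => ?_
      haveI : Nontrivial S' := (nontrivial_iff_ne_bot _).2 hne
      haveI := hSp.center_nontrivial
      obtain ⟨z, hz⟩ := exists_ne (1 : center S')
      have hmem : ((z : S') : G) ∈ S' ⊓ centralizer (S' : Set G) :=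
        ⟨z.1.2, fun a ha => congrArg Subtype.val (mem_center_iff.1 z.2 ⟨a, ha⟩)⟩
      rw [hb, mem_bot] at hmem
      exact hz (Subtype.ext (Subtype.ext hmem))
    · rw [← Basics.conj_smul_eq_self_iff, conjSmul_eq_map,
        Components.map_omegaZ _ _ (MulAut.conj g).injective.injOn, ← conjSmul_eq_map,
        (Basics.conj_smul_eq_self_iff).2 hg]
    · rw [← hX]
      rintro _ ⟨a, ha, rfl⟩
      exact congrArg Subtype.val (ht a ha)
  · have hX : J.map T.subtype = thompsonSubgroupOf p S' := by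
      rw [Transfer.map_thompsonSubgroupOf _ _ T.subtype_injective.injOn, hSTe]
    refine ⟨thompsonSubgroupOf p S', Transfer.thompsonSubgroupOf_ne_bot hSp hne,
      Transfer.thompsonSubgroupOf_le _, fun g hg => ?_, fin _ _ hq fun t ht => ?_⟩
    · rw [← Basics.conj_smul_eq_self_iff, conjSmul_eq_map,
        Transfer.map_thompsonSubgroupOf _ _ (MulAut.conj g).injective.injOn, ← conjSmul_eq_map,
        (Basics.conj_smul_eq_self_iff).2 hg]
    · rw [← hX]
      exact le_normalizer_map T.subtype ⟨t, ht, rfl⟩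

/-- The main induction. -/
theorem exists_normal_good (hpq : p ≠ q) (h23 : ¬ ((p = 2 ∧ q = 3) ∨ (p = 3 ∧ q = 2))) :
    ∀ (n : ℕ) (G : Type u) [Group G] [Finite G], Nat.card G = n → Hyp p G →
      (∃ H : Subgroup G, IsPGroup p H ∧ Good q H) →
      ∃ (K : Subgroup G) (P : Sylow p G), IsPGroup p K ∧ Good q K ∧
        (P : Subgroup G) ≤ normalizer (K : Set G) := by
  intro n
  induction n using Nat.strong_induction_on with
  | _ n ih =>
  intro G _ _ hn h hex
  classical
  let f : Subgroup G → ℕ := fun H => p ^ (Nat.card (normalizer (H : Set G))).factorization p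
  have hle : ∀ (H A : Subgroup G), IsPGroup p A → A ≤ normalizer (H : Set G) → Nat.card A ≤ f H := by
    intro H A hA hAN
    obtain ⟨P, hP⟩ := (hA.comap_of_injective (normalizer (H : Set G)).subtype (subtype_injective _)).exists_le_sylow
    rw [← Nat.card_congr (subgroupOfEquivOfLe hAN).toEquiv]
    exact (card_le_of_le hP).trans P.card_eq_multiplicity.le
  haveI : Fintype (Subgroup G) := Fintype.ofFinite _
  obtain ⟨H₀, hH₀⟩ := hex
  obtain ⟨H, hHs, hmax⟩ := Finset.exists_max_image (Finset.univ.filter fun H : Subgroup G => IsPGroup p H ∧ Good q H) f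
    ⟨H₀, by simpa using hH₀⟩
  simp only [Finset.mem_filter, Finset.mem_univ, true_and] at hHs hmax
  obtain ⟨hH, hg⟩ := hHs
  obtain ⟨S⟩ : Nonempty (Sylow p ↥(normalizer (H : Set G))) := Sylow.nonempty
  set S' := (S : Subgroup _).map (normalizer (H : Set G)).subtype with hS'
  have hSp : IsPGroup p S' := S.2.map _
  have hSN : S' ≤ normalizer (H : Set G) := map_subtype_le _
  have hScard : Nat.card S' = f H := by
    rw [hS', card_map_of_injective (subtype_injective _)]; exact S.card_eq_multiplicity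
  obtain ⟨P, hP⟩ := hSp.exists_le_sylow
  by_cases hfull : (P : Subgroup G) ≤ S'
  · exact ⟨H, P, hH, hg, hfull.trans hSN⟩
  have hne : S' ≠ ⊥ := fun hb => by
    have h1 : Nat.card H ≤ 1 := by
      rw [← card_bot (G := G), ← hb, hScard]; exact hle H H hH le_normalizer
    obtain ⟨y, -, -, hyC⟩ := hg
    exact hyC fun a ha => by
      rw [(eq_bot_of_card_le H h1) ] at ha
      rw [mem_bot.1 ha, one_mul, mul_one]
  obtain ⟨X, hX1, hXS, hXn, y, hyH, hyX, ⟨k, hk⟩, hyC⟩ := exists_X hpq h23 h hH hg S hS' hne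
  have hXp : IsPGroup p X := hSp.to_le hXS
  by_cases hnorm : normalizer (X : Set G) = ⊤
  · haveI : X.Normal := normalizer_eq_top_iff.1 hnorm
    by_cases hyc : y ∈ centralizer (X : Set G)
    · -- pass to the quotient
      have hlt : Nat.card (G ⧸ X) < n := by
        rw [← hn, Subgroup.card_eq_card_quotient_mul_card_subgroup X]
        exact lt_mul_of_one_lt_right Nat.card_pos ((one_lt_card_iff_ne_bot X).2 hX1)
      set π := QuotientGroup.mk' X
      have hgood : Good q (H.map π) := by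
        refine ⟨π y, le_normalizer_map _ ⟨y, hyH, rfl⟩, ⟨k, by rw [← map_pow, hk, map_one]⟩, fun hh => hyC ?_⟩
        intro a ha
        have hyq : y * a * y⁻¹ ∈ H := (mem_normalizer_iff.1 hyH a).1 ha
        set c := a⁻¹ * (y * a * y⁻¹) with hc
        have hcX : c ∈ X := by
          rw [← QuotientGroup.eq_one_iff]
          show π c = 1
          rw [hc, map_mul, map_mul, map_mul, map_inv, map_inv, ← hh _ ⟨a, ha, rfl⟩]
          group
        have hcH : c ∈ H := mul_mem (inv_mem ha) hyq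
        have hyc' : Commute y c := (hyc c hcX).symm
        have hpow : ∀ j : ℕ, y ^ j * a * (y ^ j)⁻¹ = a * c ^ j := by
          intro j
          induction j with
          | zero => simp
          | succ j ihj =>
            calc y ^ (j + 1) * a * (y ^ (j + 1))⁻¹ = y * (y ^ j * a * (y ^ j)⁻¹) * y⁻¹ := by
                  rw [pow_succ' y j]; group
              _ = (y * a * y⁻¹) * (y * c ^ j * y⁻¹) := by rw [ihj]; group
              _ = a * c ^ (j + 1) := by
                  rw [(hyc'.pow_right j).eq, mul_inv_cancel_right, show y * a * y⁻¹ = a * c by rw [hc]; group,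
                    mul_assoc, ← pow_succ']
        have h2 := hpow (q ^ k)
        rw [hk] at h2
        simp only [one_mul, inv_one, mul_one] at h2
        obtain ⟨i, hi⟩ := hH ⟨c, hcH⟩
        have hc1 : c = 1 := eq_one_of_coprime_pows (p := p) (q := q) hpq (congrArg Subtype.val hi) (mul_eq_left.1 h2.symm)
        rw [hc, inv_mul_eq_one] at hc1
        exact eq_mul_inv_iff_mul_eq.1 hc1
      obtain ⟨K, P1, hK, hKg, hP1⟩ := ih _ hlt (G ⧸ X) rfl (hyp_quotient h X hXp)
        ⟨H.map π, hH.map π, hgood⟩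
      have hKp : IsPGroup p (K.comap π) := hK.comap_of_ker_isPGroup _ (by rwa [QuotientGroup.ker_mk'])
      obtain ⟨P2, hP2⟩ := Sylow.mapSurjective_surjective (QuotientGroup.mk'_surjective X) p P1
      refine ⟨K.comap π, P2, hKp, ?_, ?_⟩
      · obtain ⟨w, hw, ⟨l, hl⟩, hwC⟩ := hKg
        obtain ⟨g, rfl⟩ := QuotientGroup.mk'_surjective X w
        obtain ⟨g', hg', hl', e⟩ := lift_qElement (q := q) π hl
        refine ⟨g', ?_, hl', fun hh => hwC ?_⟩
        · rw [← comap_normalizer_eq_of_surjective K (QuotientGroup.mk'_surjective X), mem_comap, e]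
          exact hw
        · intro a ha
          obtain ⟨b, rfl⟩ := QuotientGroup.mk'_surjective X a
          rw [← e, ← map_mul, ← map_mul, hh b ha]
      · rw [← comap_normalizer_eq_of_surjective K (QuotientGroup.mk'_surjective X)]
        intro a ha
        refine mem_comap.2 (hP1 ?_)
        rw [← hP2]
        exact ⟨a, ha, rfl⟩
    · exact ⟨X, P, hXp, ⟨y, hyX, ⟨k, hk⟩, hyc⟩, hnorm ▸ le_top⟩
  · -- a larger normalizer
    exfalso
    set M := normalizer (X : Set G)
    have hlt : Nat.card M < n := hn ▸ lt_of_le_of_ne (card_le_card_group M)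
      fun e => hnorm (eq_top_of_card_eq M e)
    have hHS : H ≤ S' := fun b hb => by
      rw [hS']
      exact ⟨⟨b, le_normalizer hb⟩, le_sylow_of_normalizer hH S (mem_subgroupOf.2 hb), rfl⟩
    have hHM : H ≤ M := hHS.trans (le_normalizer.trans hXn)
    obtain ⟨K, PM, hK, hKg, hPM⟩ := ih _ hlt M rfl (hyp_subgroup h M) ⟨H.subgroupOf M,
      hH.comap_of_injective M.subtype M.subtype_injective, ⟨y, hyX⟩,
      mem_normalizer_iff.2 fun z => (mem_normalizer_iff.1 hyH z.1), ⟨k, Subtype.ext hk⟩,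
      fun hh => hyC fun a ha => congrArg Subtype.val (hh ⟨a, hHM ha⟩ (mem_subgroupOf.2 ha))⟩
    have hKg' : Good q (K.map M.subtype) := by
      obtain ⟨w, hw, ⟨l, hl⟩, hwC⟩ := hKg
      exact ⟨w, le_normalizer_map _ ⟨w, hw, rfl⟩, ⟨l, congrArg Subtype.val hl⟩,
        fun hh => hwC fun a ha => Subtype.ext (hh _ ⟨a, ha, rfl⟩)⟩
    -- enlarge `S'` inside `M`
    haveI : Group.IsNilpotent (P : Subgroup G) := P.2.isNilpotent
    obtain ⟨g, hgn, hgS⟩ := SetLike.exists_of_lt (normalizerCondition_of_isNilpotent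
      (S'.subgroupOf (P : Subgroup G)) (lt_top_iff_ne_top.2 fun e => hfull (subgroupOf_eq_top.1 e)))
    have hgN : (g : G) ∈ normalizer (S' : Set G) := by
      have := le_normalizer_map (P : Subgroup G).subtype ⟨g, hgn, rfl⟩
      rwa [map_subgroupOf_eq_of_le hP] at this
    set A := S' ⊔ zpowers (g : G)
    have hAP : A ≤ (P : Subgroup G) := sup_le hP (zpowers_le.2 g.2)
    have hAM : A ≤ M := sup_le (le_normalizer.trans hXn) (zpowers_le.2 (hXn hgN))
    have hlt' : Nat.card S' < Nat.card A := lt_of_le_of_ne (card_le_of_le le_sup_left) fun e => hgS (by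
      rw [mem_subgroupOf, eq_of_le_of_card_ge (le_sup_left : S' ≤ A) e.ge]
      exact mem_sup_right (mem_zpowers _))
    obtain ⟨Q, hQ⟩ := ((P.2.to_le hAP).comap_of_injective M.subtype M.subtype_injective).exists_le_sylow
    have hA : Nat.card A ≤ Nat.card (PM : Subgroup M) := by
      rw [← Nat.card_congr (subgroupOfEquivOfLe hAM).toEquiv]
      exact (card_le_of_le hQ).trans (by rw [Q.card_eq_multiplicity, PM.card_eq_multiplicity])
    have hbig := hle (K.map M.subtype) ((PM : Subgroup M).map M.subtype) (PM.2.map _)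
      ((map_mono hPM).trans (le_normalizer_map _))
    rw [card_map_of_injective M.subtype_injective] at hbig
    have := hmax _ ⟨hK.map _, hKg'⟩
    omega

end Cfsg.Agent.AutDiv
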